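import Mathlib.AlgebraicGeometry.Morphisms.Flat
import Mathlib.AlgebraicGeometry.Morphisms.Affine

/-!
# Derivations on a fibre product are determined by their values on functions of the two factors

`Y = X₁ ×_S X₂`, `i : Z ⟶ Y`.  `eq_zero`: an additive family `δ : Γ(Y, W) → Γ(Z, i⁻¹W)` compatible with restriction,
with the Leibniz rule, which vanishes on functions pulled back from `X₁` and from `X₂`, is zero.
-/

set_option autoImplicit false

universe u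

open CategoryTheory CategoryTheory.Limits AlgebraicGeometry TopologicalSpace Opposite

namespace K311.DerUniq

variable {X₁ X₂ S Y Z : Scheme.{u}} {f₁ : X₁ ⟶ S} {f₂ : X₂ ⟶ S} {p₁ : Y ⟶ X₁} {p₂ : Y ⟶ X₂}

theorem isPushout_sections (H : IsPullback p₁ p₂ f₁ f₂) {T : S.Opens} (hT : IsAffineOpen T) {U : X₁.Opens}
    (hU : IsAffineOpen U) {V : X₂.Opens} (hV : IsAffineOpen V) (hUT : U ≤ f₁ ⁻¹ᵁ T) (hVT : V ≤ f₂ ⁻¹ᵁ T) :
    IsPushout (f₁.appLE T U hUT) (f₂.appLE T V hVT) (p₁.appLE U (p₁ ⁻¹ᵁ U ⊓ p₂ ⁻¹ᵁ V) inf_le_left)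
      (p₂.appLE V (p₁ ⁻¹ᵁ U ⊓ p₂ ⁻¹ᵁ V) inf_le_right) :=
  (isIso_pushoutSection_iff H (US := T) (UT := V) (UX := U) hVT hUT (UY := p₁ ⁻¹ᵁ U ⊓ p₂ ⁻¹ᵁ V) rfl).1
    (isIso_pushoutSection_of_isAffineOpen H hVT hUT rfl hT hV hU)

/-- a subring containing both images of a pushout of rings is everything -/
theorem eq_top_of_isPushout {A B C D : CommRingCat.{u}} {a : A ⟶ B} {b : A ⟶ C} {c : B ⟶ D} {d : C ⟶ D}
    (h : IsPushout a b c d) (K : Subring D) (h1 : ∀ x, c x ∈ K) (h2 : ∀ x, d x ∈ K) (x : D) : x ∈ K := by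
  let c' : B ⟶ CommRingCat.of K := CommRingCat.ofHom (c.hom.codRestrict K h1)
  let d' : C ⟶ CommRingCat.of K := CommRingCat.ofHom (d.hom.codRestrict K h2)
  have w : a ≫ c' = b ≫ d' := by
    refine CommRingCat.hom_ext (RingHom.ext fun y => ?_)
    exact Subtype.ext (ConcreteCategory.congr_hom h.w y)
  let r : D ⟶ CommRingCat.of K := h.desc c' d' w
  have e1 : r ≫ CommRingCat.ofHom K.subtype = 𝟙 D := by
    refine h.hom_ext ?_ ?_
    · rw [← Category.assoc, h.inl_desc, Category.comp_id]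
      rfl
    · rw [← Category.assoc, h.inr_desc, Category.comp_id]
      rfl
  have e2 : (r x).1 = x := ConcreteCategory.congr_hom e1 x
  rw [← e2]
  exact (r x).2

variable (i : Z ⟶ Y) (δ : ∀ W : Y.Opens, Γ(Y, W) →+ Γ(Z, i ⁻¹ᵁ W))

/-- compatibility with restriction -/
def Nat : Prop := ∀ (V W : Y.Opens) (h : V ≤ W) (y : Γ(Y, W)),
  δ V (Y.presheaf.map (homOfLE h).op y) = Z.presheaf.map (homOfLE (i.preimage_mono h)).op (δ W y)

/-- the Leibniz rule -/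
def Leib : Prop := ∀ (W : Y.Opens) (a b : Γ(Y, W)), δ W (a * b) = i.app W a * δ W b + i.app W b * δ W a

variable {i δ}

theorem Leib.one (h : Leib i δ) (W : Y.Opens) : δ W 1 = 0 := by
  have h1 := h W 1 1
  rw [mul_one, _root_.map_one (i.app W).hom, one_mul] at h1
  exact left_eq_add.1 h1

/-- the kernel -/
def kerSub (h : Leib i δ) (W : Y.Opens) : Subring Γ(Y, W) where
  carrier := {y | δ W y = 0}
  mul_mem' {a b} ha hb := by
    change δ W (a * b) = 0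
    rw [h W a b, show δ W a = 0 from ha, show δ W b = 0 from hb, mul_zero, mul_zero, add_zero]
  one_mem' := h.one W
  add_mem' {a b} ha hb := by
    change δ W (a + b) = 0
    rw [map_add, show δ W a = 0 from ha, show δ W b = 0 from hb, add_zero]
  zero_mem' := map_zero _
  neg_mem' {a} ha := by
    change δ W (-a) = 0
    rw [map_neg, show δ W a = 0 from ha, neg_zero]

theorem mem_kerSub (h : Leib i δ) (W : Y.Opens) (y : Γ(Y, W)) : y ∈ kerSub h W ↔ δ W y = 0 := Iff.rfl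

theorem zero_of_basic (hn : Nat i δ) (hl : Leib i δ) {W₀ : Y.Opens} (hW₀ : IsAffineOpen W₀)
    (h0 : ∀ y, δ W₀ y = 0) (s : Γ(Y, W₀)) (y : Γ(Y, Y.basicOpen s)) : δ (Y.basicOpen s) y = 0 := by
  have := hW₀.isLocalization_basicOpen s
  obtain ⟨⟨a, ⟨_, n, rfl⟩⟩, e⟩ := IsLocalization.surj (Submonoid.powers s) y
  have e' : y * Y.presheaf.map (homOfLE (Y.basicOpen_le s)).op (s ^ n) =
      Y.presheaf.map (homOfLE (Y.basicOpen_le s)).op a := e
  have h1 : ∀ z, δ (Y.basicOpen s) (Y.presheaf.map (homOfLE (Y.basicOpen_le s)).op z) = 0 := fun z => by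
    rw [hn, h0, map_zero]
  have h2 := hl (Y.basicOpen s) y (Y.presheaf.map (homOfLE (Y.basicOpen_le s)).op (s ^ n))
  rw [e', h1, h1, mul_zero, zero_add] at h2
  have h3 : IsUnit (Y.presheaf.map (homOfLE (Y.basicOpen_le s)).op s) := RingedSpace.isUnit_res_basicOpen _ _
  have h4 : IsUnit (i.app (Y.basicOpen s) (Y.presheaf.map (homOfLE (Y.basicOpen_le s)).op (s ^ n))) := by
    rw [map_pow, map_pow]
    exact (h3.map (i.app (Y.basicOpen s)).hom).pow n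
  exact (h4.mul_right_eq_zero.1 h2.symm)

theorem eq_zero (H : IsPullback p₁ p₂ f₁ f₂) (hn : Nat i δ) (hl : Leib i δ)
    (h₁ : ∀ (V : X₁.Opens) (x : Γ(X₁, V)), δ (p₁ ⁻¹ᵁ V) (p₁.app V x) = 0)
    (h₂ : ∀ (V : X₂.Opens) (x : Γ(X₂, V)), δ (p₂ ⁻¹ᵁ V) (p₂.app V x) = 0) (W : Y.Opens) (y : Γ(Y, W)) :
    δ W y = 0 := by
  refine TopCat.Presheaf.section_ext Z.sheaf (i ⁻¹ᵁ W) _ _ fun z hz => ?_
  obtain ⟨T, hT, hzT, -⟩ := exists_isAffineOpen_mem_and_subset (X := S) (x := f₁ (p₁ (i z))) (U := ⊤) trivial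
  have hw : f₂ (p₂ (i z)) = f₁ (p₁ (i z)) := by
    rw [← Scheme.Hom.comp_apply, ← H.w, Scheme.Hom.comp_apply]
  obtain ⟨U, hU, hzU, hUT⟩ := exists_isAffineOpen_mem_and_subset (X := X₁) (x := p₁ (i z)) (U := f₁ ⁻¹ᵁ T) hzT
  obtain ⟨V, hV, hzV, hVT⟩ := exists_isAffineOpen_mem_and_subset (X := X₂) (x := p₂ (i z)) (U := f₂ ⁻¹ᵁ T)
    (by change f₂ (p₂ (i z)) ∈ T; rw [hw]; exact hzT)
  have hpo := isPushout_sections H hT hU hV hUT hVT
  have haff : IsAffineOpen (p₁ ⁻¹ᵁ U ⊓ p₂ ⁻¹ᵁ V) := by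
    have : IsAffine _ := hT
    have : IsAffine _ := hU
    have : IsAffine _ := hV
    exact .of_isIso (Scheme.Hom.isPullback_resLE H hVT hUT rfl).isoPullback.hom
  have h0 : ∀ y : Γ(Y, p₁ ⁻¹ᵁ U ⊓ p₂ ⁻¹ᵁ V), δ _ y = 0 := fun y => by
    refine eq_top_of_isPushout hpo (kerSub hl _) (fun x => ?_) (fun x => ?_) y
    · rw [mem_kerSub, Scheme.Hom.appLE, CommRingCat.comp_apply]
      refine (hn _ _ _ _).trans ?_
      rw [h₁, map_zero]
    · rw [mem_kerSub, Scheme.Hom.appLE, CommRingCat.comp_apply]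
      refine (hn _ _ _ _).trans ?_
      rw [h₂, map_zero]
  obtain ⟨s, hs, hzs⟩ := haff.exists_basicOpen_le (V := W) ⟨i z, hz⟩ (show i z ∈ p₁ ⁻¹ᵁ U ⊓ p₂ ⁻¹ᵁ V from ⟨hzU, hzV⟩)
  have h3 := zero_of_basic hn hl haff h0 s (Y.presheaf.map (homOfLE hs).op y)
  rw [hn] at h3
  have h4 := TopCat.Presheaf.germ_res_apply Z.presheaf (homOfLE (i.preimage_mono hs)) z hzs (δ W y)
  refine h4.symm.trans ?_
  refine (congrArg (Z.presheaf.germ (i ⁻¹ᵁ Y.basicOpen s) z hzs) h3).trans ?_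
  exact (_root_.map_zero (Z.presheaf.germ (i ⁻¹ᵁ Y.basicOpen s) z hzs).hom).trans
    (_root_.map_zero (Z.presheaf.germ (i ⁻¹ᵁ W) z hz).hom).symm

end K311.DerUniq
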