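import Groth.Agent.AbVar.K159.PartA
import Groth.Agent.AbVar.K504.AnyField
import Groth.Agent.S5005
import Groth.Agent.Sga67.TensorOps
import Groth.Agent.Sga67.DVRConn
import Groth.Agent.Grpsch.CubePush
import Groth.Agent.Dcoh.FreeSec
import Groth.Agent.AbVar.K311.DerUniq
import Groth.Agent.AbVar.K759.PartB

/-!
# Invariant derivations on an abelian variety
-/

set_option autoImplicit false

universe u

open CategoryTheory CategoryTheory.Limits Opposite TopologicalSpace AlgebraicGeometry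

namespace K311.InvDataAV

open K504.GDMap K504.AltSh K504.Star K504.Inv Groth.Agent

section raw

variable {X Y S : Scheme.{u}} {f : X ⟶ S}

/-- the values of a derivation `O_X → O_X` -/
noncomputable def dr (E : OmegaSh.Der f (Coh.structureModule X)) (V : X.Opens) : Γ(X, V) →+ Γ(X, V) :=
  (OmegaSh.fnSect X V).comp (E.app V)

theorem ap_dv_eq (E : OmegaSh.Der f (Coh.structureModule X)) (V : X.Opens) (x : Γ(X, V)) :
    ap (dv E) (op V) x = dr E V x := rfl

theorem dr_res (E : OmegaSh.Der f (Coh.structureModule X)) {V W : X.Opens} (h : V ≤ W) (x : Γ(X, W)) :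
    dr E V (X.presheaf.map (homOfLE h).op x) = X.presheaf.map (homOfLE h).op (dr E W x) :=
  E.d_map (homOfLE h).op x

theorem dr_mul (E : OmegaSh.Der f (Coh.structureModule X)) (V : X.Opens) (a b : Γ(X, V)) :
    dr E V (a * b) = a * dr E V b + b * dr E V a :=
  E.d_mul (X := op V) a b

theorem dr_base (E : OmegaSh.Der f (Coh.structureModule X)) (T : S.Opens) (c : Γ(S, T)) :
    dr E (f ⁻¹ᵁ T) (f.app T c) = 0 :=
  E.d_app (X := op T) c

/-- `E` and `E'` are related by `p` -/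
def Rel {f' : Y ⟶ S} (p : Y ⟶ X) (E : OmegaSh.Der f' (Coh.structureModule Y))
    (E' : OmegaSh.Der f (Coh.structureModule X)) : Prop :=
  ∀ (V : X.Opens) (x : Γ(X, V)), dr E (p ⁻¹ᵁ V) (p.app V x) = p.app V (dr E' V x)

theorem rel_iff {f' : Y ⟶ S} (p : Y ⟶ X) (E : OmegaSh.Der f' (Coh.structureModule Y))
    (E' : OmegaSh.Der f (Coh.structureModule X)) :
    Rel p E E' ↔ co p ≫ (CohTop.push (X := Y.toTopCat) (Y := X.toTopCat) p.base).map (dv E) = dv E' ≫ co p := by
  constructor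
  · intro h
    exact hom_ext' fun V x => h V.unop x
  · intro h V x
    exact congrArg (fun φ => ap φ (op V) x) h

theorem zero_iff {f' : Y ⟶ S} (p : Y ⟶ X) (E : OmegaSh.Der f' (Coh.structureModule Y)) :
    (∀ (V : X.Opens) (x : Γ(X, V)), dr E (p ⁻¹ᵁ V) (p.app V x) = 0) ↔
      co p ≫ (CohTop.push (X := Y.toTopCat) (Y := X.toTopCat) p.base).map (dv E) = 0 := by
  constructor
  · intro h
    exact hom_ext' fun V x => h V.unop x
  · intro h V x
    exact congrArg (fun φ => ap φ (op V) x) h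

/-- change of the structure morphism -/
def cast {s s' : X ⟶ S} (h : s = s') (E : OmegaSh.Der s (Coh.structureModule X)) :
    OmegaSh.Der s' (Coh.structureModule X) := h ▸ E

theorem dr_cast {s s' : X ⟶ S} (h : s = s') (E : OmegaSh.Der s (Coh.structureModule X)) (V : X.Opens) :
    dr (cast h E) V = dr E V := by
  subst h
  rfl

theorem dv_cast {s s' : X ⟶ S} (h : s = s') (E : OmegaSh.Der s (Coh.structureModule X)) :
    dv (cast h E) = dv E := by
  subst h
  rfl

theorem app_nat (i : X ⟶ Y) {V W : Y.Opens} (h : V ≤ W) (y : Γ(Y, W)) :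
    i.app V (Y.presheaf.map (homOfLE h).op y) = X.presheaf.map (homOfLE (i.preimage_mono h)).op (i.app W y) :=
  ConcreteCategory.congr_hom (i.naturality (homOfLE h).op) y

theorem app_congr {q q' : Y ⟶ X} (h : q = q') (V : X.Opens) (hV : q ⁻¹ᵁ V ≤ q' ⁻¹ᵁ V) (x : Γ(X, V)) :
    q.app V x = Y.presheaf.map (homOfLE hV).op (q'.app V x) := by
  subst h
  have h1 : Y.presheaf.map (homOfLE hV).op = 𝟙 _ := Y.presheaf.map_id _
  rw [h1]
  rfl

theorem app_of_eq_id {q : X ⟶ X} (h : q = 𝟙 X) (V : X.Opens) (hV : q ⁻¹ᵁ V ≤ V) (x : Γ(X, V)) :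
    q.app V x = X.presheaf.map (homOfLE hV).op x := by
  subst h
  have h1 : X.presheaf.map (homOfLE hV).op = 𝟙 _ := X.presheaf.map_id _
  rw [h1]
  rfl

theorem preimage_le_of_eq_id {q : X ⟶ X} (h : q = 𝟙 X) (V : X.Opens) : q ⁻¹ᵁ V ≤ V := by
  subst h
  exact le_rfl

theorem le_preimage_of_eq_id {q : X ⟶ X} (h : q = 𝟙 X) (V : X.Opens) : V ≤ q ⁻¹ᵁ V := by
  subst h
  exact le_rfl

theorem preimage_le_of_eq {q q' : Y ⟶ X} (h : q = q') (V : X.Opens) : q ⁻¹ᵁ V ≤ q' ⁻¹ᵁ V := by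
  subst h
  exact le_rfl

/-- **Restriction to a section.** `E` a derivation along the first factor of `Y = X ×_S X`, `i = (id, e)`:
`i^# E = E' i^#`. -/
theorem rel_section {p q : Y ⟶ X} (H : IsPullback p q f f) {f' : Y ⟶ S} (E : OmegaSh.Der f' (Coh.structureModule Y))
    (E' : OmegaSh.Der f (Coh.structureModule X)) (h1 : Rel p E E')
    (h2 : ∀ (V : X.Opens) (x : Γ(X, V)), dr E (q ⁻¹ᵁ V) (q.app V x) = 0) {i : X ⟶ Y} (e : S ⟶ X)
    (hp : i ≫ p = 𝟙 X) (hq : i ≫ q = f ≫ e) (W : Y.Opens) (y : Γ(Y, W)) :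
    i.app W (dr E W y) = dr E' (i ⁻¹ᵁ W) (i.app W y) := by
  let δ : ∀ W : Y.Opens, Γ(Y, W) →+ Γ(X, i ⁻¹ᵁ W) := fun W =>
    (i.app W).hom.toAddMonoidHom.comp (dr E W) - (dr E' (i ⁻¹ᵁ W)).comp (i.app W).hom.toAddMonoidHom
  have hδ : ∀ W y, δ W y = i.app W (dr E W y) - dr E' (i ⁻¹ᵁ W) (i.app W y) := fun _ _ => rfl
  have hn : DerUniq.Nat i δ := fun V W h y => by
    rw [hδ, hδ, dr_res, app_nat, app_nat, dr_res, map_sub]
  have hl : DerUniq.Leib i δ := fun W a b => by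
    rw [hδ, hδ, hδ, dr_mul, map_mul, dr_mul, map_add, map_mul, map_mul]
    ring
  refine sub_eq_zero.1 (DerUniq.eq_zero H hn hl (fun V x => ?_) (fun V x => ?_) W y)
  · rw [hδ, h1]
    have a1 : ∀ z : Γ(X, V), i.app (p ⁻¹ᵁ V) (p.app V z) =
        X.presheaf.map (homOfLE (preimage_le_of_eq_id hp V)).op z := fun z =>
      app_of_eq_id hp V (preimage_le_of_eq_id hp V) z
    rw [a1, a1]
    refine sub_eq_zero.2 ?_
    exact (dr_res E' (preimage_le_of_eq_id hp V) x).symm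
  · rw [hδ, h2, map_zero, zero_sub, neg_eq_zero]
    have a1 : i.app (q ⁻¹ᵁ V) (q.app V x) =
        X.presheaf.map (homOfLE (preimage_le_of_eq hq V)).op (f.app (e ⁻¹ᵁ V) (e.app V x)) :=
      app_congr hq V (preimage_le_of_eq hq V) x
    rw [a1]
    refine (dr_res E' (preimage_le_of_eq hq V) _).trans ?_
    have a2 : dr E' ((f ≫ e) ⁻¹ᵁ V) (f.app (e ⁻¹ᵁ V) (e.app V x)) = 0 := dr_base E' (e ⁻¹ᵁ V) (e.app V x)
    rw [a2, map_zero]
    rfl

end raw

section coeff

variable {X Y S : Scheme.{u}} {f : X ⟶ S}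

theorem app_unit (φ : Coh.structureModule X ⟶ Coh.structureModule X) (U : X.Opens) (x : Γ(X, U)) :
    OmegaSh.fnSect X U (φ.app U (OmegaSh.strSect X U x)) =
      x * X.presheaf.map (homOfLE le_top : U ⟶ ⊤).op (OmegaSh.fnSect X ⊤ (φ.app ⊤ (Dcoh.FreeSec.one X))) := by
  have h1 := ConcreteCategory.congr_hom (φ.mapPresheaf.naturality (homOfLE le_top : U ⟶ ⊤).op) (Dcoh.FreeSec.one X)
  have h2 : φ.app U (1 : Γ(X, U)) =
      (Coh.structureModule X).presheaf.map (homOfLE le_top : U ⟶ ⊤).op (φ.app ⊤ (Dcoh.FreeSec.one X)) := by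
    refine Eq.trans ?_ h1
    change _ = φ.app U (X.presheaf.map (homOfLE le_top : U ⟶ ⊤).op (1 : Γ(X, ⊤)))
    rw [map_one]
  have h3 : φ.app U (x • (1 : Γ(X, U))) = x • φ.app U (1 : Γ(X, U)) := φ.app_smul x _
  have h4 : (x • (1 : Γ(X, U)) : Γ(X, U)) = x := mul_one x
  rw [h2, h4] at h3
  exact h3

variable [QuasiSeparated f] {g : ℕ} (F : Frame f g)

theorem coeff_unique (c : Fin g → Γ(X, ⊤)) (j : Fin g)
    (h : ∀ (V : X.Opens) (x : Γ(X, V)),
      ∑ l, X.presheaf.map (homOfLE le_top : V ⟶ ⊤).op (c l) * dr (F.der l) V x = dr (F.der j) V x) (l : Fin g) :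
    c l = if l = j then 1 else 0 := by
  classical
  let α : Omega.sheaf f ⟶ Coh.structureModule X :=
    ∑ l, F.D l ≫ Dcoh.FreeSec.ofSec (Coh.structureModule X) (c l)
  have hα : ∀ (U : X.Opens) (m : Γ(Omega.sheaf f, U)), OmegaSh.fnSect X U (α.app U m) =
      ∑ l, X.presheaf.map (homOfLE le_top : U ⟶ ⊤).op (c l) * OmegaSh.fnSect X U ((F.D l).app U m) := by
    intro U m
    let ev : (Omega.sheaf f ⟶ Coh.structureModule X) →+ Γ(X, U) :=
      { toFun := fun φ => OmegaSh.fnSect X U (φ.app U m)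
        map_zero' := rfl
        map_add' := fun _ _ => rfl }
    change ev (∑ l, F.D l ≫ Dcoh.FreeSec.ofSec (Coh.structureModule X) (c l)) = _
    rw [map_sum]
    refine Finset.sum_congr rfl fun l _ => ?_
    have h1 := app_unit (Dcoh.FreeSec.ofSec (Coh.structureModule X) (c l)) U
      (OmegaSh.fnSect X U ((F.D l).app U m))
    rw [Dcoh.FreeSec.ofSec_app_one, mul_comm] at h1
    exact h1
  have h1 : α = F.D j := by
    refine (S5005.result f (Coh.structureModule X) (F.der j)).unique ?_ rfl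
    refine PresheafOfModules.Derivation.ext ?_
    funext V
    refine AddMonoidHom.ext fun x => ?_
    exact (hα V.unop ((OmegaSh.dOmega f).app V.unop x)).trans (h V.unop x)
  obtain ⟨m, hm⟩ := (F.bij ⊤).2 (Pi.single l 1)
  have h2 : ∀ l', OmegaSh.fnSect X ⊤ ((F.D l').app ⊤ m) = if l' = l then 1 else 0 := fun l' => by
    have := congrFun hm l'
    rw [Pi.single_apply] at this
    exact this
  have h3 := hα ⊤ m
  rw [h1, h2, Finset.sum_eq_single l] at h3
  · rw [h2, if_pos rfl, mul_one] at h3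
    have h4 : X.presheaf.map (homOfLE le_top : (⊤ : X.Opens) ⟶ ⊤).op (c l) = c l := by
      have h5 : X.presheaf.map (homOfLE le_top : (⊤ : X.Opens) ⟶ ⊤).op = 𝟙 _ := X.presheaf.map_id _
      rw [h5]
      rfl
    rw [h4] at h3
    rw [← h3]
    simp only [eq_comm]
  · intro b _ hb
    rw [h2, if_neg hb, mul_zero]
  · intro h
    exact absurd (Finset.mem_univ _) h

/-- `E` on functions pulled back along `h` is `∂_j`, if this holds after restriction to a section of `h` -/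
theorem rel_of_section (h : Y ⟶ X) (E : OmegaSh.Der (h ≫ f) (Coh.structureModule Y)) (j : Fin g) {i : X ⟶ Y}
    (hi : i ≫ h = 𝟙 X) (hinj : Function.Injective i.appTop)
    (hE : ∀ (W : Y.Opens) (y : Γ(Y, W)), i.app W (dr E W y) = dr (F.der j) (i ⁻¹ᵁ W) (i.app W y)) :
    Rel h E (F.der j) := by
  classical
  obtain ⟨γ, hγ⟩ := K759.PartB.exists_coeff F h E
  have hγ' : ∀ (V : X.Opens) (x : Γ(X, V)), dr E (h ⁻¹ᵁ V) (h.app V x) =
      ∑ l, Y.presheaf.map (homOfLE le_top : h ⁻¹ᵁ V ⟶ ⊤).op (γ l) * h.app V (dr (F.der l) V x) := hγ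
  have h1 : ∀ l, i.appTop (γ l) = if l = j then 1 else 0 := by
    refine coeff_unique F (fun l => i.appTop (γ l)) j fun V x => ?_
    have l1 : V ≤ i ⁻¹ᵁ h ⁻¹ᵁ V := le_preimage_of_eq_id hi V
    have l2 : i ⁻¹ᵁ h ⁻¹ᵁ V ≤ V := preimage_le_of_eq_id hi V
    have a1 : ∀ z : Γ(X, V), i.app (h ⁻¹ᵁ V) (h.app V z) =
        X.presheaf.map (homOfLE l2).op z := fun z =>
      app_of_eq_id hi V l2 z
    have a2 := hE (h ⁻¹ᵁ V) (h.app V x)
    rw [hγ', a1, map_sum] at a2
    have hr : ∀ z : Γ(X, V), X.presheaf.map (homOfLE l1).op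
        (X.presheaf.map (homOfLE l2).op z) = z := fun z => by
      rw [res_res_apply l2 (le_refl V) l1]
      have h5 : X.presheaf.map (homOfLE (le_refl V)).op = 𝟙 _ := X.presheaf.map_id _
      rw [h5]
      rfl
    have a3 : ∑ l, X.presheaf.map (homOfLE l1).op (i.app (h ⁻¹ᵁ V)
        (Y.presheaf.map (homOfLE le_top : h ⁻¹ᵁ V ⟶ ⊤).op (γ l) * h.app V (dr (F.der l) V x))) =
          dr (F.der j) V x := by
      refine (_root_.map_sum (X.presheaf.map (homOfLE l1).op).hom _ _).symm.trans ?_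
      refine (congrArg (X.presheaf.map (homOfLE l1).op) a2).trans ?_
      refine (dr_res (F.der j) l1 _).symm.trans ?_
      exact congrArg (dr (F.der j) V) (hr x)
    refine Eq.trans (Finset.sum_congr rfl fun l _ => ?_) a3
    rw [map_mul, map_mul, a1, hr]
    refine congrArg (fun t => t * dr (F.der l) V x) ?_
    have a5 : i.app (h ⁻¹ᵁ V) (Y.presheaf.map (homOfLE le_top : h ⁻¹ᵁ V ⟶ ⊤).op (γ l)) =
        X.presheaf.map (homOfLE (i.preimage_mono le_top)).op (i.app ⊤ (γ l)) := app_nat i le_top (γ l)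
    rw [a5]
    exact (res_res_apply (i.preimage_mono le_top) le_top l1 (i.app ⊤ (γ l))).symm
  have h2 : ∀ l, γ l = if l = j then 1 else 0 := fun l => hinj (by
    rw [h1]
    split_ifs
    · exact (_root_.map_one i.appTop.hom).symm
    · exact (_root_.map_zero i.appTop.hom).symm)
  intro V x
  rw [hγ', Finset.sum_eq_single j]
  · rw [h2, if_pos rfl, map_one, one_mul]
  · intro b _ hb
    rw [h2, if_neg hb, map_zero, zero_mul]
  · intro h
    exact absurd (Finset.mem_univ _) h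

end coeff

section asm

variable {X Y S : Scheme.{u}} {f : X ⟶ S}

theorem dr_eq_zero {p q : Y ⟶ X} (H : IsPullback p q f f) {f' : Y ⟶ S}
    (E : OmegaSh.Der f' (Coh.structureModule Y)) (h1 : ∀ (V : X.Opens) (x : Γ(X, V)), dr E (p ⁻¹ᵁ V) (p.app V x) = 0)
    (h2 : ∀ (V : X.Opens) (x : Γ(X, V)), dr E (q ⁻¹ᵁ V) (q.app V x) = 0) (W : Y.Opens) (y : Γ(Y, W)) :
    dr E W y = 0 := by
  let δ : ∀ W : Y.Opens, Γ(Y, W) →+ Γ(Y, (𝟙 Y : Y ⟶ Y) ⁻¹ᵁ W) := fun W => dr E W
  have hn : DerUniq.Nat (𝟙 Y) δ := fun V W h y => dr_res E h y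
  have hl : DerUniq.Leib (𝟙 Y) δ := fun W a b => by
    rw [Scheme.Hom.id_app]
    exact dr_mul E W a b
  exact DerUniq.eq_zero H hn hl h1 h2 W y

theorem dv_comm {p q : Y ⟶ X} (H : IsPullback p q f f) {f' : Y ⟶ S}
    (E E' : OmegaSh.Der f' (Coh.structureModule Y))
    (h1 : ∀ (V : X.Opens) (x : Γ(X, V)), dr E' (p ⁻¹ᵁ V) (dr E (p ⁻¹ᵁ V) (p.app V x)) =
      dr E (p ⁻¹ᵁ V) (dr E' (p ⁻¹ᵁ V) (p.app V x)))
    (h2 : ∀ (V : X.Opens) (x : Γ(X, V)), dr E' (q ⁻¹ᵁ V) (dr E (q ⁻¹ᵁ V) (q.app V x)) =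
      dr E (q ⁻¹ᵁ V) (dr E' (q ⁻¹ᵁ V) (q.app V x))) : dv E ≫ dv E' = dv E' ≫ dv E := by
  obtain ⟨B, hB⟩ := K759.PartB.exists_bracket E E'
  have hB' : ∀ (W : Y.Opens) (y : Γ(Y, W)), dr B W y = dr E' W (dr E W y) - dr E W (dr E' W y) := fun W y =>
    congrArg (fun φ => ap φ (op W) y) hB
  have h0 := dr_eq_zero H B (fun V x => by rw [hB', h1, sub_self]) (fun V x => by rw [hB', h2, sub_self])
  refine sub_eq_zero.1 (hB.symm.trans ?_)
  exact hom_ext' fun W y => h0 W.unop y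

theorem app_injective {h : Y ⟶ X} {i : X ⟶ Y} (hi : i ≫ h = 𝟙 X) (V : X.Opens) : Function.Injective (h.app V) := by
  intro a b hab
  have l1 : V ≤ i ⁻¹ᵁ h ⁻¹ᵁ V := le_preimage_of_eq_id hi V
  have l2 : i ⁻¹ᵁ h ⁻¹ᵁ V ≤ V := preimage_le_of_eq_id hi V
  have a1 : ∀ z : Γ(X, V), i.app (h ⁻¹ᵁ V) (h.app V z) = X.presheaf.map (homOfLE l2).op z := fun z =>
    app_of_eq_id hi V l2 z
  have hr : ∀ z : Γ(X, V), X.presheaf.map (homOfLE l1).op (X.presheaf.map (homOfLE l2).op z) = z := fun z => by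
    rw [res_res_apply l2 (le_refl V) l1]
    have h5 : X.presheaf.map (homOfLE (le_refl V)).op = 𝟙 _ := X.presheaf.map_id _
    rw [h5]
    rfl
  rw [← hr a, ← hr b, ← a1, ← a1, hab]

variable [QuasiSeparated f] {g : ℕ} (F : Frame f g) {p1 p2 μ : Y ⟶ X} (H : IsPullback p1 p2 f f)
  (hμ : μ ≫ f = p1 ≫ f) (e : S ⟶ X) {i1 i2 : X ⟶ Y}
  (a1 : i1 ≫ p1 = 𝟙 X) (a2 : i1 ≫ p2 = f ≫ e) (a3 : i1 ≫ μ = 𝟙 X) (b1 : i2 ≫ p1 = f ≫ e) (b2 : i2 ≫ p2 = 𝟙 X)
  (b3 : i2 ≫ μ = 𝟙 X) (hi1 : Function.Injective i1.appTop) (hi2 : Function.Injective i2.appTop)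

include H hμ a1 a2 a3 hi1 in
theorem exists_u1 (j : Fin g) : ∃ E : OmegaSh.Der (p1 ≫ f) (Coh.structureModule Y), Rel p1 E (F.der j) ∧
    (∀ (V : X.Opens) (x : Γ(X, V)), dr E (p2 ⁻¹ᵁ V) (p2.app V x) = 0) ∧ Rel μ E (F.der j) := by
  obtain ⟨E, h1, h2⟩ := K159.PartA.exists_partial p1 p2 H (F.D j)
  have h1' : Rel p1 E (F.der j) := (rel_iff p1 E (F.der j)).2 h1
  have h2' := (zero_iff p2 E).2 h2
  refine ⟨E, h1', h2', ?_⟩
  have h3 := rel_of_section F μ (cast hμ.symm E) j a3 hi1 (fun W y => by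
    rw [dr_cast]
    exact rel_section H E (F.der j) h1' h2' e a1 a2 W y)
  intro V x
  have h4 := h3 V x
  rw [dr_cast] at h4
  exact h4

include H hμ b1 b2 b3 hi2 in
theorem exists_u2 (j : Fin g) : ∃ E : OmegaSh.Der (p1 ≫ f) (Coh.structureModule Y), Rel p2 E (F.der j) ∧
    (∀ (V : X.Opens) (x : Γ(X, V)), dr E (p1 ⁻¹ᵁ V) (p1.app V x) = 0) ∧ Rel μ E (F.der j) := by
  obtain ⟨E, h1, h2, h3⟩ := exists_u1 F H.flip (hμ.trans H.w) e b2 b1 b3 hi2 j
  refine ⟨cast H.w.symm E, fun V x => ?_, fun V x => ?_, fun V x => ?_⟩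
  · rw [dr_cast]
    exact h1 V x
  · rw [dr_cast]
    exact h2 V x
  · rw [dr_cast]
    exact h3 V x

end asm

section main

variable {k : Type u} [Field k] {X Y : Scheme.{u}} {f : X ⟶ Spec (CommRingCat.of k)} [QuasiSeparated f] {g : ℕ}
  (F : Frame f g) {p1 p2 μ : Y ⟶ X} (H : IsPullback p1 p2 f f)
  (hμ : μ ≫ f = p1 ≫ f) (e : Spec (CommRingCat.of k) ⟶ X) {i1 i2 : X ⟶ Y}
  (a1 : i1 ≫ p1 = 𝟙 X) (a2 : i1 ≫ p2 = f ≫ e) (a3 : i1 ≫ μ = 𝟙 X) (b1 : i2 ≫ p1 = f ≫ e) (b2 : i2 ≫ p2 = 𝟙 X)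
  (b3 : i2 ≫ μ = 𝟙 X) (hi1 : Function.Injective i1.appTop) (hi2 : Function.Injective i2.appTop)

include F H hμ a1 a2 a3 b1 b2 b3 hi1 hi2 in
theorem nonempty_invData : Nonempty (InvData f p1 p2 μ g) := by
  choose E1 h11 h12 h1μ using exists_u1 F H hμ e a1 a2 a3 hi1
  choose E2 h22 h21 h2μ using exists_u2 F H hμ e b1 b2 b3 hi2
  have c12 : ∀ i j, dv (E1 i) ≫ dv (E2 j) = dv (E2 j) ≫ dv (E1 i) := fun i j =>
    dv_comm H (E1 i) (E2 j) (fun V x => by rw [h11, h21, h21, map_zero])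
      (fun V x => by rw [h12, h22, h12, map_zero])
  have c12' : ∀ i j (W : Y.Opens) (y : Γ(Y, W)), dr (E2 j) W (dr (E1 i) W y) = dr (E1 i) W (dr (E2 j) W y) :=
    fun i j W y => congrArg (fun φ => ap φ (op W) y) (c12 i j)
  have c' : ∀ i j (V : X.Opens) (x : Γ(X, V)), dr (F.der j) V (dr (F.der i) V x) = dr (F.der i) V (dr (F.der j) V x) :=
    fun i j V x => app_injective a3 V (by rw [← h2μ, ← h1μ, ← h1μ, ← h2μ, c12'])
  have c : ∀ i j, F.del i ≫ F.del j = F.del j ≫ F.del i := fun i j => hom_ext' fun V x => c' i j V.unop x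
  have c11 : ∀ i j, dv (E1 i) ≫ dv (E1 j) = dv (E1 j) ≫ dv (E1 i) := fun i j =>
    dv_comm H (E1 i) (E1 j) (fun V x => by rw [h11, h11, h11, h11, c'])
      (fun V x => by rw [h12, h12, map_zero, map_zero])
  exact ⟨{
    F := F
    comm := c
    u1 := fun j => dv (E1 j)
    u2 := fun j => dv (E2 j)
    u1_p1 := fun j => (rel_iff p1 (E1 j) (F.der j)).1 (h11 j)
    u1_μ := fun j => (rel_iff μ (E1 j) (F.der j)).1 (h1μ j)
    u1_lin := fun j => by
      have h := K759.PartB.pLin_of_zero p2 (cast H.w (E1 j)) (by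
        rw [dv_cast]
        exact (zero_iff p2 (E1 j)).1 (h12 j))
      rw [dv_cast] at h
      exact h
    u2_p1 := fun j => (zero_iff p1 (E2 j)).1 (h21 j)
    u2_μ := fun j => (rel_iff μ (E2 j) (F.der j)).1 (h2μ j)
    comm11 := c11
    comm12 := c12 }⟩

end main

section frame

variable {X S : Scheme.{u}} {f : X ⟶ S} [QuasiSeparated f] {n : ℕ}

/-- the frame attached to a trivialisation of `Ω` -/
noncomputable def frame (φ : Omega.sheaf f ≅ FlatMod.freeMod X n) : Frame f n where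
  D j := φ.hom ≫ Dcoh.FreeSec.pr X j
  bij U := by
    constructor
    · intro a b hab
      have h1 : ∀ m : Γ(FlatMod.freeMod X n, U), ∑ j : Fin n, (Sigma.ι (fun _ : Fin n => Coh.structureModule X) j).app U
          ((Dcoh.FreeSec.pr X j).app U m) = m := by
        intro m
        let ev : (FlatMod.freeMod X n ⟶ FlatMod.freeMod X n) →+ Γ(FlatMod.freeMod X n, U) :=
          { toFun := fun φ => φ.app U m
            map_zero' := rfl
            map_add' := fun _ _ => rfl }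
        have h2 := congrArg ev (Dcoh.FreeSec.sum_pr_ι (X := X) (n := n))
        rw [map_sum] at h2
        exact h2
      have h3 : φ.hom.app U a = φ.hom.app U b := by
        rw [← h1 (φ.hom.app U a), ← h1 (φ.hom.app U b)]
        refine Finset.sum_congr rfl fun j _ => ?_
        exact congrArg ((Sigma.ι (fun _ : Fin n => Coh.structureModule X) j).app U) (congrFun hab j)
      have h4 : ∀ m, φ.inv.app U (φ.hom.app U m) = m := fun m => by
        change (φ.hom ≫ φ.inv).app U m = m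
        rw [φ.hom_inv_id]
        rfl
      rw [← h4 a, ← h4 b, h3]
    · intro c
      classical
      refine ⟨φ.inv.app U (∑ i : Fin n, (Sigma.ι (fun _ : Fin n => Coh.structureModule X) i).app U
        (OmegaSh.strSect X U (c i))), ?_⟩
      funext j
      have h4 : ∀ m, φ.hom.app U (φ.inv.app U m) = m := fun m => by
        change (φ.inv ≫ φ.hom).app U m = m
        rw [φ.inv_hom_id]
        rfl
      change OmegaSh.fnSect X U ((Dcoh.FreeSec.pr X j).app U (φ.hom.app U (φ.inv.app U _))) = c j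
      rw [h4, map_sum, map_sum, Finset.sum_eq_single j]
      · change OmegaSh.fnSect X U ((Sigma.ι (fun _ : Fin n => Coh.structureModule X) j ≫ Dcoh.FreeSec.pr X j).app U
          (OmegaSh.strSect X U (c j))) = c j
        rw [Dcoh.FreeSec.ι_pr, if_pos rfl]
        rfl
      · intro i _ hi
        change OmegaSh.fnSect X U ((Sigma.ι (fun _ : Fin n => Coh.structureModule X) i ≫ Dcoh.FreeSec.pr X j).app U
          (OmegaSh.strSect X U (c i))) = 0
        rw [Dcoh.FreeSec.ι_pr, if_neg hi]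
        rfl
      · intro h
        exact absurd (Finset.mem_univ _) h

end frame

section av

variable (k : Type u) [Field k] (X : Scheme.{u}) [X.Over (Spec (CommRingCat.of k))]
    [GrpObj (Over.mk (X ↘ Spec (CommRingCat.of k)))] [IsProper (X ↘ Spec (CommRingCat.of k))]
    [GeometricallyIntegral (X ↘ Spec (CommRingCat.of k))] (g : ℕ) (hg : topologicalKrullDim ↥X = g)

include hg in
theorem exists_frame : Nonempty (Frame (X ↘ Spec (CommRingCat.of k)) g) := by
  obtain ⟨φ⟩ := K504.AnyField.exists_iso_freeMod k X hg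
    (Sga67.TensorOps.isExtPow_one (Omega.sheaf (X ↘ Spec (CommRingCat.of k))))
  have h1 := frame φ
  rw [Nat.choose_one_right] at h1
  exact ⟨h1⟩

end av

section grp

open MonoidalCategory CartesianMonoidalCategory MonObj

variable {S : Scheme.{u}} (A : Over S) [GrpObj A]

/-- `(a, b) ↦ (a b, b)` -/
noncomputable def shear : A ⊗ A ≅ A ⊗ A where
  hom := lift μ[A] (snd A A)
  inv := lift (fst A A * (snd A A)⁻¹) (snd A A)
  hom_inv_id := by
    rw [comp_lift, comp_mul, GrpObj.comp_inv, lift_fst, lift_snd, mul_eq_mul, mul_inv_cancel_right, lift_fst_snd]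
  inv_hom_id := by
    rw [comp_lift, mul_eq_mul, comp_mul, lift_fst, lift_snd, inv_mul_cancel_right, lift_fst_snd]

theorem isPullback_mul : IsPullback (μ[A]).left (snd A A).left A.hom A.hom := by
  refine IsPullback.of_iso_pullback ⟨?_⟩ ((Over.forget S).mapIso (shear A)) ?_ ?_
  · rw [Over.w, Over.w]
  · change (shear A).hom.left ≫ (fst A A).left = _
    rw [← Over.comp_left, shear, lift_fst]
  · change (shear A).hom.left ≫ (snd A A).left = _
    rw [← Over.comp_left, shear, lift_snd]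

end grp

section av

variable (k : Type u) [Field k] (X : Scheme.{u}) [X.Over (Spec (CommRingCat.of k))]
    [GrpObj (Over.mk (X ↘ Spec (CommRingCat.of k)))] [IsProper (X ↘ Spec (CommRingCat.of k))]
    [GeometricallyIntegral (X ↘ Spec (CommRingCat.of k))] (g : ℕ) (hg : topologicalKrullDim ↥X = g)

theorem appTop_injective {k : Type u} [Field k] {X Y : Scheme.{u}} (f : X ⟶ Spec (CommRingCat.of k)) [IsProper f]
    [GeometricallyIntegral f] (s : Y ⟶ Spec (CommRingCat.of k)) [IsProper s] [GeometricallyIntegral s] (i : X ⟶ Y)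
    (h : i ≫ s = f) : Function.Injective i.appTop := by
  intro a b hab
  obtain ⟨a, rfl⟩ := (Sga67.DVRConn.appTop_bijective_of_field k Y s).2 a
  obtain ⟨b, rfl⟩ := (Sga67.DVRConn.appTop_bijective_of_field k Y s).2 b
  refine congrArg s.appTop ((Sga67.DVRConn.appTop_bijective_of_field k X f).1 ?_)
  subst h
  exact hab

open MonoidalCategory CartesianMonoidalCategory MonObj in
include hg in
theorem exists_invData :
    ∃ (Y : Scheme.{u}) (p1 p2 m : Y ⟶ X),
      IsPullback p1 p2 (X ↘ Spec (CommRingCat.of k)) (X ↘ Spec (CommRingCat.of k)) ∧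
      IsPullback m p2 (X ↘ Spec (CommRingCat.of k)) (X ↘ Spec (CommRingCat.of k)) ∧
      Nonempty (K504.Inv.InvData (X ↘ Spec (CommRingCat.of k)) p1 p2 m g) := by
  obtain ⟨F⟩ := exists_frame k X g hg
  let f : X ⟶ Spec (CommRingCat.of k) := X ↘ Spec (CommRingCat.of k)
  let A : Over (Spec (CommRingCat.of k)) := Over.mk (X ↘ Spec (CommRingCat.of k))
  have hf1 : IsProper f := inferInstanceAs (IsProper (X ↘ Spec (CommRingCat.of k)))
  have hf2 : GeometricallyIntegral f := inferInstanceAs (GeometricallyIntegral (X ↘ Spec (CommRingCat.of k)))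
  have H : IsPullback (fst A A).left (snd A A).left f f := IsPullback.of_hasPullback f f
  have hμ : (μ[A]).left ≫ f = (fst A A).left ≫ f := (Over.w μ[A]).trans (Over.w (fst A A)).symm
  have hs : (A ⊗ A).hom = pullback.fst f f ≫ f := (Over.w (fst A A)).symm
  have hP : IsProper (A ⊗ A).hom := by
    rw [hs]
    infer_instance
  have hG : GeometricallyIntegral (A ⊗ A).hom := by
    rw [hs]
    exact Grpsch.CubeData.geometricallyIntegral_comp _ _
  let i1 : A ⟶ A ⊗ A := lift (𝟙 A) 1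
  let i2 : A ⟶ A ⊗ A := lift 1 (𝟙 A)
  have a1 : i1.left ≫ (fst A A).left = 𝟙 X := by
    rw [← Over.comp_left, lift_fst]
    rfl
  have a2 : i1.left ≫ (snd A A).left = f ≫ (η[A]).left := by
    rw [← Over.comp_left, lift_snd]
    rfl
  have a3 : i1.left ≫ (μ[A]).left = 𝟙 X := by
    rw [← Over.comp_left]
    change ((𝟙 A : A ⟶ A) * 1).left = _
    rw [_root_.mul_one]
    rfl
  have b1 : i2.left ≫ (fst A A).left = f ≫ (η[A]).left := by
    rw [← Over.comp_left, lift_fst]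
    rfl
  have b2 : i2.left ≫ (snd A A).left = 𝟙 X := by
    rw [← Over.comp_left, lift_snd]
    rfl
  have b3 : i2.left ≫ (μ[A]).left = 𝟙 X := by
    rw [← Over.comp_left]
    change (1 * (𝟙 A : A ⟶ A)).left = _
    rw [_root_.one_mul]
    rfl
  exact ⟨(A ⊗ A).left, (fst A A).left, (snd A A).left, (μ[A]).left, H, isPullback_mul A,
    nonempty_invData F H hμ (η[A]).left a1 a2 a3 b1 b2 b3 (appTop_injective f (A ⊗ A).hom i1.left (Over.w i1))
      (appTop_injective f (A ⊗ A).hom i2.left (Over.w i2))⟩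

end av

end K311.InvDataAV
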